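import Groth.Agent.ToposFinLib.QC
import Groth.Prelude.Def_CohCx
import Mathlib

/-!
Sections over quasi-compact objects commute with direct sums of abelian sheaves.
-/

set_option autoImplicit false
set_option linter.style.haveILetI false
set_option linter.unusedSectionVars false
set_option backward.isDefEq.respectTransparency false
set_option backward.isDefEq.respectTransparency.types false

universe v w u

open CategoryTheory CategoryTheory.Limits Opposite

noncomputable section

open scoped Classical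

namespace Groth.Agent.ModQcLib

variable {A : Type w} [Category.{v} A] [Preadditive A] {ι : Type u} (a : ι → A) [HasCoproduct a]

/-- The projection to the finite partial sum. -/
def eT (T : Finset ι) : ∐ a ⟶ ∐ a := ∑ j ∈ T, Sigma.π a j ≫ Sigma.ι a j

theorem ι_eT {T : Finset ι} {j : ι} (h : j ∈ T) : Sigma.ι a j ≫ eT a T = Sigma.ι a j := by
  rw [eT, Preadditive.comp_sum, Finset.sum_eq_single_of_mem j h]
  · rw [← Category.assoc, Sigma.ι_π_eq_id, Category.id_comp]
  · intro k _ hk
    rw [← Category.assoc, Sigma.ι_π_of_ne _ hk.symm, zero_comp]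

/-- The elements fixed by almost all partial sums. -/
def finSub (G : A ⥤ AddCommGrpCat.{u}) [G.Additive] : AddSubgroup (G.obj (∐ a)) where
  carrier := {z | ∃ T : Finset ι, ∀ T', T ⊆ T' → G.map (eT a T') z = z}
  zero_mem' := ⟨∅, fun _ _ => map_zero _⟩
  add_mem' := by
    classical
    rintro x y ⟨T, hT⟩ ⟨U, hU⟩
    refine ⟨T ∪ U, fun T' h => ?_⟩
    rw [map_add, hT T' (Finset.subset_union_left.trans h), hU T' (Finset.subset_union_right.trans h)]
  neg_mem' := by
    rintro x ⟨T, hT⟩
    exact ⟨T, fun T' h => by rw [map_neg, hT T' h]⟩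

theorem ι_mem_finSub (G : A ⥤ AddCommGrpCat.{u}) [G.Additive] (j : ι) (x : G.obj (a j)) :
    G.map (Sigma.ι a j) x ∈ finSub a G := by
  refine ⟨{j}, fun T' h => ?_⟩
  rw [← ConcreteCategory.comp_apply, ← G.map_comp, ι_eT a (h (Finset.mem_singleton_self j))]

theorem finSub_eq_sum {G : A ⥤ AddCommGrpCat.{u}} [G.Additive] {z : G.obj (∐ a)} (hz : z ∈ finSub a G) :
    ∃ T : Finset ι, z = ∑ j ∈ T, G.map (Sigma.ι a j) (G.map (Sigma.π a j) z) := by
  obtain ⟨T, hT⟩ := hz
  refine ⟨T, ?_⟩
  conv_lhs => rw [← hT T le_rfl, eT, Functor.map_sum]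
  refine (map_sum (AddMonoidHom.mk' (fun f : G.obj (∐ a) ⟶ G.obj (∐ a) => f z) fun _ _ => rfl) _ _).trans ?_
  exact Finset.sum_congr rfl fun j _ => by rw [G.map_comp]; rfl

/-- Elements of a direct sum of abelian groups have finite support. -/
theorem finSub_id_eq_top (b : ι → AddCommGrpCat.{u}) : finSub b (𝟭 AddCommGrpCat.{u}) = ⊤ := by
  let S := finSub b (𝟭 AddCommGrpCat.{u})
  let m : AddCommGrpCat.of S ⟶ ∐ b := AddCommGrpCat.ofHom S.subtype
  let r : ∐ b ⟶ AddCommGrpCat.of S := Sigma.desc fun j =>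
    AddCommGrpCat.ofHom ((Sigma.ι b j).hom.codRestrict S (ι_mem_finSub b (𝟭 _) j))
  have h : r ≫ m = 𝟙 _ := Sigma.hom_ext _ _ fun j => by
    rw [Sigma.ι_desc_assoc, Category.comp_id]
    rfl
  refine eq_top_iff.2 fun z _ => ?_
  have e : (r ≫ m) z = z := by rw [h]; rfl
  rw [← e]
  exact (r z).2

/-- A functor to abelian groups for which all elements of the sum have finite support commutes with the sum. -/
theorem preservesColimit_of_finSub (G : A ⥤ AddCommGrpCat.{u}) [G.Additive] (h : finSub a G = ⊤) :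
    PreservesColimit (Discrete.functor a) G := by
  classical
  let φ := sigmaComparison G a
  have hφ : ∀ k, φ ≫ G.map (Sigma.π a k) = Sigma.π (fun j => G.obj (a j)) k := fun k =>
    Sigma.hom_ext _ _ fun j => by
      rw [ι_comp_sigmaComparison_assoc, ← G.map_comp]
      by_cases hjk : j = k
      · subst hjk
        rw [Sigma.ι_π_eq_id, Sigma.ι_π_eq_id, G.map_id]
      · rw [Sigma.ι_π_of_ne _ hjk, Sigma.ι_π_of_ne _ hjk, G.map_zero]
  haveI : IsIso φ := by
    rw [ConcreteCategory.isIso_iff_bijective]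
    refine ⟨(injective_iff_map_eq_zero φ.hom).2 fun z hz => ?_, fun t => ?_⟩
    · obtain ⟨T, hT⟩ := finSub_eq_sum (fun j => G.obj (a j)) (G := 𝟭 AddCommGrpCat.{u})
        (z := z) (finSub_id_eq_top (fun j => G.obj (a j)) ▸ AddSubgroup.mem_top _)
      rw [hT]
      refine Finset.sum_eq_zero fun j _ => ?_
      have e : Sigma.π (fun j => G.obj (a j)) j z = 0 := by
        rw [← hφ j, ConcreteCategory.comp_apply, show φ z = 0 from hz, map_zero]
      exact (congrArg (Sigma.ι (fun j => G.obj (a j)) j) e).trans (map_zero _)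
    · obtain ⟨T, hT⟩ := finSub_eq_sum a (G := G) (z := t) (h ▸ AddSubgroup.mem_top _)
      refine ⟨∑ j ∈ T, Sigma.ι (fun j => G.obj (a j)) j (G.map (Sigma.π a j) t), ?_⟩
      rw [map_sum]
      refine Eq.trans (Finset.sum_congr rfl fun j _ => ?_) hT.symm
      rw [← ConcreteCategory.comp_apply, ι_comp_sigmaComparison]
  exact PreservesCoproduct.of_iso_comparison G a

/-! ### Sheaves -/

variable {C : Type u} [SmallCategory C] {J : GrothendieckTopology C}

/-- Sections over an object. -/
abbrev sec (V : C) : Sheaf J AddCommGrpCat.{u} ⥤ AddCommGrpCat.{u} :=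
  (sheafSections J AddCommGrpCat.{u}).obj (op V)

instance (V : C) : (sec (J := J) V).Additive where
  map_add := rfl

theorem sec_finSub_map {ι : Type u} (b : ι → Sheaf J AddCommGrpCat.{u}) {V W : C} (g : W ⟶ V)
    {z : (sec V).obj (∐ b)} (hz : z ∈ finSub b (sec V)) : (∐ b).obj.map g.op z ∈ finSub b (sec W) := by
  obtain ⟨T, hT⟩ := hz
  refine ⟨T, fun T' h => ?_⟩
  show (eT b T').hom.app (op W) ((∐ b).obj.map g.op z) = _
  rw [NatTrans.naturality_apply]
  exact congrArg ((∐ b).obj.map g.op) (hT T' h)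

/-- The presheaf of sections of finite support. -/
def finPre {ι : Type u} (b : ι → Sheaf J AddCommGrpCat.{u}) : Cᵒᵖ ⥤ AddCommGrpCat.{u} where
  obj V := AddCommGrpCat.of (finSub b (sec V.unop))
  map {V W} g := AddCommGrpCat.ofHom
    ((((∐ b).obj.map g).hom.comp (finSub b (sec V.unop)).subtype).codRestrict (finSub b (sec W.unop))
      fun z => sec_finSub_map b g.unop z.2)
  map_id V := by
    ext z
    exact ConcreteCategory.congr_hom ((∐ b).obj.map_id V) (Subtype.val z)
  map_comp {V W X} g h := by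
    ext z
    exact ConcreteCategory.congr_hom ((∐ b).obj.map_comp g h) (Subtype.val z)

/-- The inclusion. -/
def finPreι {ι : Type u} (b : ι → Sheaf J AddCommGrpCat.{u}) : finPre b ⟶ (∐ b).obj where
  app V := AddCommGrpCat.ofHom (finSub b (sec V.unop)).subtype

theorem finSub_locally {ι : Type u} (b : ι → Sheaf J AddCommGrpCat.{u}) (V : C) (t : (sec V).obj (∐ b)) :
    ∃ S ∈ J V, ∀ ⦃W : C⦄ (g : W ⟶ V), S g → (∐ b).obj.map g.op t ∈ finSub b (sec W) := by
  let Q : Sheaf J AddCommGrpCat.{u} := (presheafToSheaf J _).obj (finPre b)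
  let m : Q ⟶ ∐ b := ⟨sheafifyLift J (finPreι b) (∐ b).property⟩
  let lift (j : ι) : (b j).obj ⟶ finPre b :=
    { app := fun U => AddCommGrpCat.ofHom (((Sigma.ι b j).hom.app U).hom.codRestrict _
        fun x => ι_mem_finSub b (sec U.unop) j x)
      naturality := fun U U' g => by
        ext x
        exact Subtype.ext (NatTrans.naturality_apply (Sigma.ι b j).hom g x) }
  let r : ∐ b ⟶ Q := Sigma.desc fun j => ⟨lift j ≫ toSheafify J (finPre b)⟩
  have h : r ≫ m = 𝟙 _ := Sigma.hom_ext _ _ fun j => by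
    rw [Sigma.ι_desc_assoc, Category.comp_id]
    apply Sheaf.hom_ext
    show (lift j ≫ toSheafify J (finPre b)) ≫ sheafifyLift J (finPreι b) (∐ b).property = _
    rw [Category.assoc, toSheafify_sheafifyLift]
    rfl
  refine ⟨_, Presheaf.imageSieve_mem J (toSheafify J (finPre b)) (U := op V) (r.hom.app (op V) t), ?_⟩
  rintro W g ⟨p, hp⟩
  have e : (∐ b).obj.map g.op t = (finPreι b).app (op W) p := by
    have e1 : m.hom.app (op V) (r.hom.app (op V) t) = t :=
      congr($(congrArg (fun q : ∐ b ⟶ ∐ b => q.hom.app (op V)) h) t)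
    conv_lhs => rw [← e1]
    rw [← NatTrans.naturality_apply m.hom]
    refine (congrArg (m.hom.app (op W)) hp.symm).trans ?_
    exact congr($(congrArg (fun q : finPre b ⟶ (∐ b).obj => q.app (op W))
      (toSheafify_sheafifyLift J (finPreι b) (∐ b).property)) p)
  rw [e]
  exact p.2

theorem isQCSite_of_isQcObject {W : C}
    (h : CohCx.IsQcObject ((presheafToSheaf J (Type u)).obj (yoneda.obj W))) : ToposFin.IsQCSite J W := by
  refine ToposFinLib.isQCSite_of_isQC (ToposFinLib.isQC_iff.2 fun κ F π hπ => ?_)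
  obtain ⟨t, ht⟩ := h κ F π fun U x => ⟨ToposFinLib.imgSieve π x, ToposFinLib.local_of_cov hπ U x, fun V g hg => hg⟩
  refine ⟨t, ToposFinLib.cov_of_local _ fun U x => ?_⟩
  obtain ⟨R, hR, hRi⟩ := ht U x
  exact J.superset_covering (fun V g hg => hRi V g hg) hR

theorem finSub_sec_eq_top {ι : Type u} (b : ι → Sheaf J AddCommGrpCat.{u}) {W : C} (hW : ToposFin.IsQCSite J W) :
    finSub b (sec W) = ⊤ := by
  classical
  refine eq_top_iff.2 fun t _ => ?_
  obtain ⟨S, hS, hSt⟩ := finSub_locally b W t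
  obtain ⟨n, V, g, hg, hcov⟩ := hW S hS
  choose T hT using fun k => hSt (g k) (hg k)
  refine ⟨Finset.univ.biUnion T, fun T' h' => ?_⟩
  refine (((isSheaf_iff_isSheaf_of_type _ _).1 ((sheafCompose J (forget AddCommGrpCat.{u})).obj (∐ b)).property)
    _ hcov).isSeparatedFor.ext fun X f hf => ?_
  obtain ⟨_, l, _, ⟨k⟩, rfl⟩ := hf
  have e := hT k T' ((Finset.subset_biUnion_of_mem T (Finset.mem_univ k)).trans h')
  show (∐ b).obj.map (l ≫ g k).op ((eT b T').hom.app (op W) t) = (∐ b).obj.map (l ≫ g k).op t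
  rw [op_comp, Functor.map_comp, ConcreteCategory.comp_apply, ConcreteCategory.comp_apply]
  refine congrArg _ (Eq.trans ?_ e)
  exact (NatTrans.naturality_apply (eT b T').hom (g k).op t).symm

theorem preservesColimitsOfShape_sec {W : C} (hW : ToposFin.IsQCSite J W) (ι : Type u) :
    PreservesColimitsOfShape (Discrete ι) (sec (J := J) W) where
  preservesColimit {K} := by
    haveI := preservesColimit_of_finSub (K.obj ∘ Discrete.mk) (sec (J := J) W) (finSub_sec_eq_top _ hW)
    exact preservesColimit_of_iso_diagram _ (Discrete.natIsoFunctor (F := K)).symm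

end Groth.Agent.ModQcLib
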