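import Groth.Agent.ModQcLib.FinPres
import Groth.Agent.S9103

/-!
Modules are filtered colimits of finitely presented ones.
-/

set_option autoImplicit false
set_option linter.style.haveILetI false
set_option linter.unusedSectionVars false
set_option backward.isDefEq.respectTransparency false
set_option backward.isDefEq.respectTransparency.types false

universe v w u

open CategoryTheory CategoryTheory.Limits Opposite
open scoped Classical

noncomputable section

namespace Groth.Agent.ModQcLib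

theorem finSub_eq_top_of_preserves {A : Type w} [Category.{v} A] [Preadditive A] {ι : Type u} (a : ι → A)
    [HasCoproduct a] (G : A ⥤ AddCommGrpCat.{u}) [G.Additive] [PreservesColimit (Discrete.functor a) G] :
    finSub a G = ⊤ := by
  refine eq_top_iff.2 fun t _ => ?_
  obtain ⟨z, rfl⟩ := (ConcreteCategory.bijective_of_isIso (sigmaComparison G a)).2 t
  obtain ⟨T, hT⟩ := finSub_eq_sum (fun j => G.obj (a j)) (G := 𝟭 AddCommGrpCat.{u})
    (z := z) (finSub_id_eq_top (fun j => G.obj (a j)) ▸ AddSubgroup.mem_top _)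
  rw [hT, map_sum]
  refine sum_mem fun j _ => ?_
  rw [← ConcreteCategory.comp_apply]
  refine (congrArg (fun m => (ConcreteCategory.hom m) ((𝟭 AddCommGrpCat.{u}).map
    (Sigma.π (fun j => G.obj (a j)) j) z) ∈ finSub a G) (ι_comp_sigmaComparison G a j)).mpr ?_
  exact ι_mem_finSub a G j _

variable {C : Type u} [SmallCategory C] {J : GrothendieckTopology C} {O : Sheaf J CommRingCat.{u}} {B : Set C}

variable (B) in
/-- A finite presentation over `F`. -/
structure Idx (F : ModSite.Mod O) : Type u where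
  m : ℕ
  n : ℕ
  V : Fin m → C
  U : Fin n → C
  hV : ∀ j, V j ∈ B
  hU : ∀ i, U i ∈ B
  ψ : (∐ fun j => ModSite.freeOn O (V j)) ⟶ ∐ fun i => ModSite.freeOn O (U i)
  f : Limits.cokernel ψ ⟶ F

variable {F : ModSite.Mod O}

/-- The module of an index. -/
abbrev Idx.obj (l : Idx B F) : ModSite.Mod O := Limits.cokernel l.ψ

instance : SmallCategory (Idx B F) where
  Hom l l' := {a : l.obj ⟶ l'.obj // a ≫ l'.f = l.f}
  id l := ⟨𝟙 _, Category.id_comp _⟩
  comp a b := ⟨a.1 ≫ b.1, by rw [Category.assoc, b.2, a.2]⟩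
  id_comp a := Subtype.ext (Category.id_comp a.1)
  comp_id a := Subtype.ext (Category.comp_id a.1)
  assoc a b c := Subtype.ext (Category.assoc a.1 b.1 c.1)

variable (B F) in
/-- The diagram. -/
def diag : Idx B F ⥤ ModSite.Mod O where
  obj l := l.obj
  map a := a.1
  map_id _ := rfl
  map_comp _ _ := rfl

variable (B F) in
/-- The cocone. -/
def diagι : diag B F ⟶ (Functor.const _).obj F where
  app l := l.f
  naturality l l' a := a.2.trans (Category.comp_id _).symm

theorem exists_idx {X : ModSite.Mod O} (h : Pres O B X) (f : X ⟶ F) :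
    ∃ (l : Idx B F) (i : X ≅ l.obj), i.hom ≫ l.f = f := by
  obtain ⟨m, n, V, U, ψ, hV, hU, ⟨i⟩⟩ := h.to_stmt
  exact ⟨⟨m, n, V, U, hV, hU, ψ, i.inv ≫ f⟩, i, by simp⟩

theorem Pres.of_free {μ κ : Type} [Finite μ] [Finite κ] {V : μ → C} {U : κ → C} (hV : ∀ j, V j ∈ B)
    (hU : ∀ i, U i ∈ B) (r : free O V ⟶ free O U) : Pres O B (Limits.cokernel r) :=
  ⟨μ, κ, inferInstance, inferInstance, V, U, hV, hU, r, cokernel.π r, cokernel.condition r, inferInstance,
    ShortComplex.exact_of_g_is_cokernel _ (cokernelIsCokernel r)⟩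

variable (hB₁ : ∀ X : C, ∃ (κ : Type u) (Y : κ → C) (g : ∀ k, Y k ⟶ X), Sieve.ofArrows Y g ∈ J X ∧ ∀ k, Y k ∈ B)
  (hB₂ : ∀ U ∈ B, CohCx.IsQcObject ((presheafToSheaf J (Type u)).obj (yoneda.obj U)))
include hB₁ hB₂

theorem isFiltered_idx : IsFiltered (Idx B F) := by
  haveI : IsFilteredOrEmpty (Idx B F) := by
    constructor
    · intro l l'
      let r := pairDesc O (l.ψ ≫ pairInl O) (l'.ψ ≫ pairInr O)
      have hf : r ≫ pairDesc O (cokernel.π l.ψ ≫ l.f) (cokernel.π l'.ψ ≫ l'.f) = 0 :=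
        pair_ext O (by rw [← Category.assoc, inl_desc, Category.assoc, inl_desc, comp_zero, cokernel.condition_assoc, zero_comp])
          (by rw [← Category.assoc, inr_desc, Category.assoc, inr_desc, comp_zero, cokernel.condition_assoc, zero_comp])
      have hm : ∀ x, Sum.elim l.V l'.V x ∈ B := by
        rintro (k | k)
        exacts [l.hV k, l'.hV k]
      have hm' : ∀ x, Sum.elim l.U l'.U x ∈ B := by
        rintro (k | k)
        exacts [l.hU k, l'.hU k]
      obtain ⟨L, i, hi⟩ := exists_idx (F := F) (Pres.of_free hm hm' r) (cokernel.desc r _ hf)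
      let a : l.obj ⟶ Limits.cokernel r := cokernel.desc l.ψ (pairInl O ≫ cokernel.π r) (by
        rw [← Category.assoc, ← inl_desc O (l.ψ ≫ pairInl O) (l'.ψ ≫ pairInr O), Category.assoc, cokernel.condition,
          comp_zero])
      let b : l'.obj ⟶ Limits.cokernel r := cokernel.desc l'.ψ (pairInr O ≫ cokernel.π r) (by
        rw [← Category.assoc, ← inr_desc O (l.ψ ≫ pairInl O) (l'.ψ ≫ pairInr O), Category.assoc, cokernel.condition,
          comp_zero])
      refine ⟨L, ⟨a ≫ i.hom, ?_⟩, ⟨b ≫ i.hom, ?_⟩, trivial⟩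
      · rw [Category.assoc, hi]
        exact coequalizer.hom_ext (by simp only [a, cokernel.π_desc_assoc, Category.assoc, cokernel.π_desc, inl_desc])
      · rw [Category.assoc, hi]
        exact coequalizer.hom_ext (by simp only [b, cokernel.π_desc_assoc, Category.assoc, cokernel.π_desc, inr_desc])
    · intro l l' a b
      have hf : (a.1 - b.1) ≫ l'.f = 0 := by rw [Preadditive.sub_comp, a.2, b.2, sub_self]
      obtain ⟨L, i, hi⟩ := exists_idx (F := F)
        (Pres.cokernel hB₁ (fun U hU => isQCSite_of_isQcObject (hB₂ U hU)) (a.1 - b.1)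
          (Pres.of_free l.hV l.hU l.ψ) (Pres.of_free l'.hV l'.hU l'.ψ)) (cokernel.desc _ _ hf)
      refine ⟨L, ⟨cokernel.π _ ≫ i.hom, by rw [Category.assoc, hi, cokernel.π_desc]⟩, Subtype.ext ?_⟩
      show a.1 ≫ cokernel.π _ ≫ i.hom = b.1 ≫ cokernel.π _ ≫ i.hom
      rw [← sub_eq_zero, ← Preadditive.sub_comp, cokernel.condition_assoc, zero_comp]
  exact { nonempty := ⟨⟨0, 0, fun i => i.elim0, fun i => i.elim0, fun i => i.elim0, fun i => i.elim0, 0, 0⟩⟩ }

theorem exists_isColimit : Nonempty (IsColimit (Cocone.mk F (diagι B F))) := by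
  have hsep : ∀ {N M : ModSite.Mod O} (g h : N ⟶ M),
      (∀ W ∈ B, ∀ x : ModSite.freeOn O W ⟶ N, x ≫ g = x ≫ h) → g = h := fun {N M} g h hgh =>
    SiteBase.FreeOn.isSeparating_freeOn O B hB₁ g h fun G hG x => by
      obtain ⟨⟨W, hW⟩⟩ := hG
      exact hgh W hW x
  let I := Σ W : B, (ModSite.freeOn O (W : C) ⟶ F)
  have hone : ∀ p : I, ∀ _ : Unit, (p.1 : C) ∈ B := fun p _ => p.1.2
  have hex : ∀ p : I, ∃ (l : Idx B F) (i : ModSite.freeOn O (p.1 : C) ⟶ l.obj), i ≫ l.f = p.2 := fun p => by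
    let r : free O (fun x : Empty => x.elim) ⟶ free O (fun _ : Unit => (p.1 : C)) := 0
    obtain ⟨L, i, hi⟩ := exists_idx (F := F) (Pres.of_free (B := B) (fun x : Empty => x.elim) (hone p) r)
      (cokernel.desc r (Sigma.desc fun _ => p.2) zero_comp)
    refine ⟨L, Sigma.ι (fun _ : Unit => ModSite.freeOn O (p.1 : C)) () ≫ cokernel.π r ≫ i.hom, ?_⟩
    rw [Category.assoc, Category.assoc, hi, cokernel.π_desc, Sigma.ι_desc]
  choose lp ip hip using hex
  let p : (∐ fun q : I => ModSite.freeOn O (q.1 : C)) ⟶ F := Sigma.desc fun q => q.2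
  have key : ∀ (s : Cocone (diag B F)) {l : Idx B F} (q : I) (i : ModSite.freeOn O (q.1 : C) ⟶ l.obj),
      i ≫ l.f = q.2 → ip q ≫ s.ι.app (lp q) = i ≫ s.ι.app l := by
    intro s l q i hi
    haveI := isFiltered_idx (F := F) hB₁ hB₂
    let M := IsFiltered.max (lp q) l
    let a := IsFiltered.leftToMax (lp q) l
    let b := IsFiltered.rightToMax (lp q) l
    let c : ModSite.freeOn O (q.1 : C) ⟶ M.obj := ip q ≫ a.1 - i ≫ b.1
    have hc : c ≫ M.f = 0 := by
      rw [Preadditive.sub_comp, Category.assoc, Category.assoc, a.2, b.2, hi, hip, sub_self]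
    let r : free O (fun _ : Unit => (q.1 : C)) ⟶ M.obj := Sigma.desc fun _ => c
    obtain ⟨L, j, hj⟩ := exists_idx (F := F)
      (Pres.cokernel hB₁ (fun U hU => isQCSite_of_isQcObject (hB₂ U hU)) r
        ⟨Empty, Unit, inferInstance, inferInstance, fun x => x.elim, fun _ => (q.1 : C), fun x => x.elim, hone q, 0, 𝟙 _,
          zero_comp, inferInstance, (ShortComplex.exact_iff_mono _ rfl).2 (inferInstanceAs (Mono (𝟙 _)))⟩
        (Pres.of_free M.hV M.hU M.ψ))
      (cokernel.desc r M.f (Sigma.hom_ext _ _ fun _ => by rw [Sigma.ι_desc_assoc, comp_zero, hc]))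
    let d : M ⟶ L := ⟨cokernel.π r ≫ j.hom, by rw [Category.assoc, hj, cokernel.π_desc]⟩
    have hcd : c ≫ d.1 = 0 := by
      have e0 : c = Sigma.ι (fun _ : Unit => ModSite.freeOn O (q.1 : C)) () ≫ r := (Sigma.ι_desc (f := fun _ : Unit => ModSite.freeOn O (q.1 : C)) (fun _ => c) ()).symm
      rw [e0, Category.assoc]
      show _ ≫ r ≫ cokernel.π r ≫ j.hom = 0
      rw [cokernel.condition_assoc, zero_comp, comp_zero]
    have h0 : (ip q ≫ a.1) ≫ d.1 = (i ≫ b.1) ≫ d.1 := by
      rw [← sub_eq_zero, ← Preadditive.sub_comp]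
      exact hcd
    have ha : (a.1 ≫ d.1) ≫ s.ι.app L = s.ι.app (lp q) := s.w (a ≫ d)
    have hb : (b.1 ≫ d.1) ≫ s.ι.app L = s.ι.app l := s.w (b ≫ d)
    rw [← ha, ← hb, ← Category.assoc (ip q), ← Category.assoc (ip q), ← Category.assoc i, ← Category.assoc i, h0]
  haveI : Epi p := Preadditive.epi_of_cancel_zero _ fun {N} φ hφ => hsep φ 0 fun W hW x => by
    have h0 := congrArg (fun m => Sigma.ι (fun q : I => ModSite.freeOn O (q.1 : C)) ⟨⟨W, hW⟩, x⟩ ≫ m) hφ
    rw [Sigma.ι_desc_assoc, comp_zero] at h0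
    rw [h0, comp_zero]
  have hker : ∀ s : Cocone (diag B F),
      kernel.ι p ≫ Sigma.desc (fun q : I => ip q ≫ s.ι.app (lp q)) = 0 := fun s => hsep _ _ fun W hW y => by
    rw [comp_zero, ← Category.assoc]
    generalize hx : y ≫ kernel.ι p = x
    have hxp : x ≫ p = 0 := by rw [← hx, Category.assoc, kernel.condition, comp_zero]
    haveI := S9103.result O W (hB₂ W hW) I
    obtain ⟨T, hT⟩ := finSub_eq_sum (fun q : I => ModSite.freeOn O (q.1 : C))
      (G := preadditiveCoyoneda.obj (op (ModSite.freeOn O W))) (z := x)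
      (finSub_eq_top_of_preserves (fun q : I => ModSite.freeOn O (q.1 : C)) (preadditiveCoyoneda.obj (op (ModSite.freeOn O W))) ▸ AddSubgroup.mem_top _)
    let e := T.equivFin
    let U : Fin T.card → C := fun i => ((e.symm i).1.1 : C)
    let c : ModSite.freeOn O W ⟶ free O U :=
      ∑ i, (x ≫ Sigma.π (fun q : I => ModSite.freeOn O (q.1 : C)) (e.symm i).1) ≫
        Sigma.ι (fun i => ModSite.freeOn O (U i)) i
    let π' : free O U ⟶ ∐ fun q : I => ModSite.freeOn O (q.1 : C) :=
      Sigma.desc fun i => Sigma.ι (fun q : I => ModSite.freeOn O (q.1 : C)) (e.symm i).1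
    have hx' : x = c ≫ π' := by
      conv_lhs => rw [hT]
      rw [Preadditive.sum_comp, ← Finset.sum_coe_sort, ← Equiv.sum_comp e.symm]
      refine Finset.sum_congr rfl fun i _ => ?_
      show (x ≫ _) ≫ _ = _
      rw [Category.assoc, Category.assoc, Category.assoc, Sigma.ι_desc]
      congr!
    let r : free O (fun _ : Unit => W) ⟶ free O U := Sigma.desc fun _ => c
    have hr : r ≫ π' ≫ p = 0 := Sigma.hom_ext _ _ fun _ => by
      rw [Sigma.ι_desc_assoc, comp_zero, ← Category.assoc, ← hx', hxp]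
    obtain ⟨L, j, hj⟩ := exists_idx (F := F) (Pres.of_free (B := B) (fun _ => hW) (fun i => (e.symm i).1.1.2) r)
      (cokernel.desc r _ hr)
    have h1 : π' ≫ Sigma.desc (fun q : I => ip q ≫ s.ι.app (lp q)) = cokernel.π r ≫ j.hom ≫ s.ι.app L :=
      Sigma.hom_ext _ _ fun i => by
        rw [Sigma.ι_desc_assoc, Sigma.ι_desc]
        refine (key s (e.symm i).1 (Sigma.ι (fun i => ModSite.freeOn O (U i)) i ≫ cokernel.π r ≫ j.hom) ?_).trans
          (by simp only [Category.assoc])
        rw [Category.assoc, Category.assoc, hj, cokernel.π_desc, Sigma.ι_desc_assoc, Sigma.ι_desc]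
    rw [hx', Category.assoc, h1,
      show c = Sigma.ι (fun _ : Unit => ModSite.freeOn O W) () ≫ r from
        (Sigma.ι_desc (f := fun _ : Unit => ModSite.freeOn O W) (fun _ => c) ()).symm, Category.assoc,
      cokernel.condition_assoc, zero_comp, comp_zero]
  let desc : ∀ s : Cocone (diag B F), F ⟶ s.pt := fun s => Abelian.epiDesc p _ (hker s)
  have hdesc : ∀ (s : Cocone (diag B F)) (q : I), q.2 ≫ desc s = ip q ≫ s.ι.app (lp q) := fun s q => by
    have h := congrArg (fun m => Sigma.ι (fun q : I => ModSite.freeOn O (q.1 : C)) q ≫ m)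
      (Abelian.comp_epiDesc p _ (hker s))
    rw [Sigma.ι_desc_assoc, Sigma.ι_desc] at h
    exact h
  refine ⟨{ desc := desc, fac := fun s l => ?_, uniq := fun s m hm => ?_ }⟩
  · refine coequalizer.hom_ext (Sigma.hom_ext _ _ fun i => ?_)
    let q : I := ⟨⟨l.U i, l.hU i⟩, Sigma.ι (fun i => ModSite.freeOn O (l.U i)) i ≫ cokernel.π l.ψ ≫ l.f⟩
    have h := (hdesc s q).trans (key s q (Sigma.ι (fun i => ModSite.freeOn O (l.U i)) i ≫ cokernel.π l.ψ)
      (Category.assoc _ _ _))
    simp only [q, Category.assoc] at h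
    exact h
  · refine (cancel_epi p).1 (Sigma.hom_ext _ _ fun q => ?_)
    rw [Sigma.ι_desc_assoc, Sigma.ι_desc_assoc, hdesc, ← hip q, Category.assoc]
    exact congrArg (ip q ≫ ·) (hm (lp q))

end Groth.Agent.ModQcLib
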