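import Groth.Agent.ModQcLib.FinPres

/-!
Extensions of finitely presented modules are finitely presented.
-/

set_option autoImplicit false
set_option linter.style.haveILetI false
set_option linter.unusedSectionVars false
set_option backward.isDefEq.respectTransparency false
set_option backward.isDefEq.respectTransparency.types false

universe u

open CategoryTheory CategoryTheory.Limits Opposite
open scoped Classical

noncomputable section

namespace Groth.Agent.ModQcLib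

variable {C : Type u} [SmallCategory C] {J : GrothendieckTopology C} {O : Sheaf J CommRingCat.{u}} {B : Set C}
  (hB₁ : ∀ X : C, ∃ (κ : Type u) (Y : κ → C) (g : ∀ k, Y k ⟶ X), Sieve.ofArrows Y g ∈ J X ∧ ∀ k, Y k ∈ B)
  (hB : ∀ U ∈ B, ToposFin.IsQCSite J U)
include hB₁ hB

theorem exists_epi_free {κ : Type} [Finite κ] (W : κ → C) (hW : ∀ k, ToposFin.IsQCSite J (W k)) :
    ∃ (κ' : Type) (_ : Finite κ') (U' : κ' → C), (∀ k, U' k ∈ B) ∧
      ∃ (c : free O U' ⟶ free O W), Epi c := by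
  choose n V g hV _ hcov using fun k => exists_fin_cover hB₁ (hW k) (J.top_mem (W k))
  exact ⟨(Σ k, Fin (n k)), inferInstance, fun x => V x.1 x.2, fun x => hV x.1 x.2, _, epi_refine hB₁ g hcov⟩

theorem kerFG_refine [HasPullbacks C]
    (hB₃ : ∀ (U U₁ U₂ : C) (f₁ : U₁ ⟶ U) (f₂ : U₂ ⟶ U), U ∈ B → U₁ ∈ B → U₂ ∈ B →
      ToposFin.IsQCSite J (pullback f₁ f₂))
    {κ : Type} [Finite κ] {U : κ → C} (hU : ∀ k, U k ∈ B) {n : κ → ℕ} {V : (k : κ) → Fin (n k) → C}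
    (g : ∀ k i, V k i ⟶ U k) (hV : ∀ k i, V k i ∈ B) (hcov : ∀ k, Sieve.ofArrows (V k) (g k) ∈ J (U k))
    (e : free O (fun x : Σ k, Fin (n k) => V x.1 x.2) ⟶ free O U)
    (he : ∀ k i, Sigma.ι (fun x : Σ k, Fin (n k) => ModSite.freeOn O (V x.1 x.2)) ⟨k, i⟩ ≫ e =
      freeMap O (g k i) ≫ Sigma.ι (fun k => ModSite.freeOn O (U k)) k) [Epi e] : KerFG O B e := by
  let W : (Σ k, Fin (n k) × Fin (n k)) → C := fun y => pullback (g y.1 y.2.1) (g y.1 y.2.2)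
  let inc : ∀ k, free O (V k) ⟶ free O (fun x : Σ k, Fin (n k) => V x.1 x.2) := fun k =>
    Sigma.desc fun i => Sigma.ι (fun x : Σ k, Fin (n k) => ModSite.freeOn O (V x.1 x.2)) ⟨k, i⟩
  let D : free O W ⟶ free O (fun x : Σ k, Fin (n k) => V x.1 x.2) :=
    Sigma.desc fun y => Sigma.ι (fun p : Fin (n y.1) × Fin (n y.1) =>
      ModSite.freeOn O (pullback (g y.1 p.1) (g y.1 p.2))) y.2 ≫ coverRel O (g y.1) ≫ inc y.1
  have hince : ∀ k, inc k ≫ e = freeCover O (g k) ≫ Sigma.ι (fun k => ModSite.freeOn O (U k)) k := fun k =>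
    Sigma.hom_ext _ _ fun i => by rw [Sigma.ι_desc_assoc, Sigma.ι_desc_assoc]; exact he k i
  have hDe : D ≫ e = 0 := Sigma.hom_ext _ _ fun y => by
    rw [Sigma.ι_desc_assoc, Category.assoc, Category.assoc, hince, ← Category.assoc (coverRel O (g y.1)),
      coverRel_comp, zero_comp, comp_zero, comp_zero]
  have fac : ∀ {N : ModSite.Mod O} (φ : free O (fun x : Σ k, Fin (n k) => V x.1 x.2) ⟶ N) (hφ : D ≫ φ = 0),
      ∃ ψ, e ≫ ψ = φ := fun {N} φ hφ => by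
    have hk : ∀ k, coverRel O (g k) ≫ inc k ≫ φ = 0 := fun k => Sigma.hom_ext _ _ fun p => by
      have h0 := congrArg (fun m => Sigma.ι (fun y => ModSite.freeOn O (W y)) ⟨k, p⟩ ≫ m) hφ
      rw [comp_zero]
      rw [Sigma.ι_desc_assoc, comp_zero, Category.assoc, Category.assoc] at h0
      exact h0
    refine ⟨Sigma.desc fun k => (eH O (U k) N).symm (exists_glue O (g k) (hcov k) _ (hk k)).choose,
      Sigma.hom_ext _ _ fun x => ?_⟩
    obtain ⟨k, i⟩ := x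
    rw [← Category.assoc, he, Category.assoc, Sigma.ι_desc]
    apply (eH O _ _).injective
    rw [eH_freeMap, Equiv.apply_symm_apply]
    refine ((exists_glue O (g k) (hcov k) _ (hk k)).choose_spec i).trans (congrArg _ ?_)
    exact Sigma.ι_desc_assoc _ _ _
  have hD : (ShortComplex.mk D e hDe).Exact :=
    ShortComplex.exact_of_g_is_cokernel _ (CokernelCofork.IsColimit.ofπ _ _
      (fun φ hφ => (fac φ hφ).choose) (fun φ hφ => (fac φ hφ).choose_spec)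
      (fun φ hφ m hm => (cancel_epi e).1 (hm.trans (fac φ hφ).choose_spec.symm)))
  obtain ⟨κ', _, U', hU', c, _⟩ := exists_epi_free hB₁ hB W
    (fun y => hB₃ _ _ _ (g y.1 y.2.1) (g y.1 y.2.2) (hU y.1) (hV _ _) (hV _ _))
  have hw : (c ≫ D) ≫ e = 0 := by rw [Category.assoc, hDe, comp_zero]
  refine ⟨κ', inferInstance, U', hU', c ≫ D, hw, ?_⟩
  rw [ShortComplex.exact_iff_exact_up_to_refinements]
  intro A x hx
  obtain ⟨A₁, π₁, _, y, hy⟩ := hD.exact_up_to_refinements x hx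
  obtain ⟨A₂, π₂, _, z, hz⟩ := surjective_up_to_refinements_of_epi c y
  dsimp at hy ⊢
  exact ⟨A₂, π₂ ≫ π₁, inferInstance, z, by rw [Category.assoc, hy, reassoc_of% hz]⟩

theorem exists_lift_kerFG [HasPullbacks C]
    (hB₃ : ∀ (U U₁ U₂ : C) (f₁ : U₁ ⟶ U) (f₂ : U₂ ⟶ U), U ∈ B → U₁ ∈ B → U₂ ∈ B →
      ToposFin.IsQCSite J (pullback f₁ f₂))
    {κ : Type} [Finite κ] {U : κ → C} (hU : ∀ k, U k ∈ B) {G H : ModSite.Mod O}
    (f : free O U ⟶ G) (p : H ⟶ G) [Epi p] :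
    ∃ (κ' : Type) (_ : Finite κ') (U' : κ' → C), (∀ k, U' k ∈ B) ∧
      ∃ (e : free O U' ⟶ free O U) (h : free O U' ⟶ H), Epi e ∧ h ≫ p = e ≫ f ∧ KerFG O B e := by
  obtain ⟨n, V, g, hV, hcov, h, hh⟩ := exists_lift hB₁ (fun k => hB _ (hU k)) f p
  haveI := epi_refine (O := O) hB₁ g hcov
  exact ⟨(Σ k, Fin (n k)), inferInstance, fun x => V x.1 x.2, fun x => hV x.1 x.2, _, h, inferInstance, hh,
    kerFG_refine hB₁ hB hB₃ hU g hV hcov _ fun k i => Sigma.ι_desc _ _⟩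

theorem Pres.extension [HasPullbacks C]
    (hB₃ : ∀ (U U₁ U₂ : C) (f₁ : U₁ ⟶ U) (f₂ : U₂ ⟶ U), U ∈ B → U₁ ∈ B → U₂ ∈ B →
      ToposFin.IsQCSite J (pullback f₁ f₂))
    (S : ShortComplex (ModSite.Mod O)) (hS : S.ShortExact) (h₁ : Pres O B S.X₁) (h₃ : Pres O B S.X₃) :
    Pres O B S.X₂ := by
  haveI := hS.epi_g
  haveI := hS.mono_f
  obtain ⟨μ₁, κ₁, _, _, V₁, U₁, hV₁, hU₁, r₁, q₁, w₁, _, hex₁⟩ := h₁
  obtain ⟨μ₃, κ₃, _, _, V₃, U₃, hV₃, hU₃, r₃, q₃, w₃, _, hex₃⟩ := h₃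
  obtain ⟨κ', _, U', hU', e, h, _, hh, K, _, VK, hVK, d, hd, hdex⟩ := exists_lift_kerFG hB₁ hB hB₃ hU₃ q₃ S.g
  obtain ⟨R, _, VR, hVR, e₂, l, _, hl⟩ := exists_lift' hB₁ hB hV₃ r₃ e
  let δ := pairDesc O d l
  have hGm : ∀ x, Sum.elim VK VR x ∈ B := by
    rintro (k | k)
    exacts [hVK k, hVR k]
  have hδ : (δ ≫ h) ≫ S.g = 0 := by
    rw [Category.assoc, hh]
    exact pair_ext O (by simp [δ, reassoc_of% (inl_desc O d l), reassoc_of% hd])
      (by simp [δ, reassoc_of% (inr_desc O d l), reassoc_of% hl, w₃])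
  let j := hS.exact.lift (δ ≫ h) hδ
  have hj : j ≫ S.f = δ ≫ h := hS.exact.lift_f _ _
  obtain ⟨G'', _, VG, hVG, e₃, k, _, hk⟩ := exists_lift' hB₁ hB hGm j q₁
  let q₂ := pairDesc O (q₁ ≫ S.f) h
  let ρ := pairDesc O (r₁ ≫ pairInl O (U' := U')) (-(k ≫ pairInl O) + e₃ ≫ δ ≫ pairInr O (U := U₁))
  have w : ρ ≫ q₂ = 0 := pair_ext O
    (by simp [ρ, q₂, reassoc_of% (inl_desc O (r₁ ≫ pairInl O (U' := U')) (-(k ≫ pairInl O) + e₃ ≫ δ ≫ pairInr O (U := U₁))),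
      inl_desc, reassoc_of% w₁])
    (by simp [ρ, q₂, reassoc_of% (inr_desc O (r₁ ≫ pairInl O (U' := U')) (-(k ≫ pairInl O) + e₃ ≫ δ ≫ pairInr O (U := U₁))),
      inl_desc, inr_desc, reassoc_of% hk, hj])
  haveI : Epi q₂ := by
    rw [epi_iff_surjective_up_to_refinements]
    intro A z
    obtain ⟨A₁, π₁, _, y, hy⟩ := surjective_up_to_refinements_of_epi (e ≫ q₃) (z ≫ S.g)
    have hz : (π₁ ≫ z - y ≫ h) ≫ S.g = 0 := by
      simp [hy, hh]
    obtain ⟨A₂, π₂, _, x', hx'⟩ := hS.exact.exact_up_to_refinements _ hz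
    obtain ⟨A₃, π₃, _, x, hx⟩ := surjective_up_to_refinements_of_epi q₁ x'
    refine ⟨A₃, π₃ ≫ π₂ ≫ π₁, inferInstance, x ≫ pairInl O + (π₃ ≫ π₂ ≫ y) ≫ pairInr O, ?_⟩
    simp only [q₂, Preadditive.add_comp, Category.assoc, inl_desc, inr_desc]
    rw [← reassoc_of% hx, ← hx', Preadditive.comp_sub, Preadditive.comp_sub]
    abel
  refine ⟨_, _, inferInstance, inferInstance, Sum.elim V₁ VG, Sum.elim U₁ U', ?_, ?_, ρ, q₂, w, inferInstance, ?_⟩
  · rintro (i | i)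
    exacts [hV₁ i, hVG i]
  · rintro (i | i)
    exacts [hU₁ i, hU' i]
  rw [ShortComplex.exact_iff_exact_up_to_refinements]
  intro A z hz
  dsimp at hz ⊢
  let x := z ≫ pairDesc O (𝟙 (free O U₁)) (0 : free O U' ⟶ free O U₁)
  let y := z ≫ pairDesc O (0 : free O U₁ ⟶ free O U') (𝟙 (free O U'))
  have hzxy : z = x ≫ pairInl O + y ≫ pairInr O := by
    rw [Category.assoc, Category.assoc, ← Preadditive.comp_add, pair_total, Category.comp_id]
  have hxy : x ≫ q₁ ≫ S.f + y ≫ h = 0 := by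
    rw [hzxy] at hz
    simpa [q₂, inl_desc, inr_desc] using hz
  have hy0 : (y ≫ e) ≫ q₃ = 0 := by
    have h0 := congrArg (· ≫ S.g) hxy
    simpa [hh] using h0
  obtain ⟨A₁, π₁, _, v₃, hv₃⟩ := hex₃.exact_up_to_refinements _ hy0
  dsimp at hv₃
  obtain ⟨A₂, π₂, _, v, hv⟩ := surjective_up_to_refinements_of_epi e₂ v₃
  have hy1 : ((π₂ ≫ π₁) ≫ y - v ≫ l) ≫ e = 0 := by
    simp [hv₃, reassoc_of% hv, hl]
  obtain ⟨A₃, π₃, _, vK, hvK⟩ := hdex.exact_up_to_refinements _ hy1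
  dsimp at hvK
  obtain ⟨A₄, π₄, _, w', hw'⟩ := surjective_up_to_refinements_of_epi e₃ (vK ≫ pairInl O + (π₃ ≫ v) ≫ pairInr O)
  let π := π₄ ≫ π₃ ≫ π₂ ≫ π₁
  have hyw : π ≫ y = w' ≫ e₃ ≫ δ := by
    rw [← reassoc_of% hw']
    simp [δ, π, inl_desc, inr_desc, ← hvK]
  have hx0 : (π ≫ x + w' ≫ k) ≫ q₁ = 0 := by
    rw [← cancel_mono S.f, zero_comp]
    have h0 := congrArg (π ≫ ·) hxy
    simp only [Preadditive.comp_add, reassoc_of% hyw, comp_zero, ← Category.assoc π] at h0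
    simp only [Preadditive.add_comp, Category.assoc, reassoc_of% hk, hj]
    simpa using h0
  obtain ⟨A₅, π₅, _, v₁, hv₁⟩ := hex₁.exact_up_to_refinements _ hx0
  dsimp at hv₁
  refine ⟨A₅, π₅ ≫ π, inferInstance, v₁ ≫ pairInl O + (π₅ ≫ w') ≫ pairInr O, ?_⟩
  simp only [ρ, Preadditive.add_comp, Category.assoc, inl_desc, inr_desc]
  rw [← reassoc_of% hv₁, hzxy]
  simp only [Preadditive.comp_add, Preadditive.add_comp, Preadditive.comp_neg, Category.assoc, reassoc_of% hyw]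
  abel

end Groth.Agent.ModQcLib
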