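import Groth.Agent.ModQcLib.Free

/-!
Modules with a finite presentation by sums of `j_{U!} O_U`, `U` in a set of quasi-compact objects.
-/

set_option autoImplicit false
set_option linter.style.haveILetI false
set_option linter.unusedSectionVars false
set_option backward.isDefEq.respectTransparency false
set_option backward.isDefEq.respectTransparency.types false

universe u

open CategoryTheory CategoryTheory.Limits Opposite
open scoped Classical

noncomputable section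

namespace Groth.Agent.ModQcLib

variable {C : Type u} [SmallCategory C] {J : GrothendieckTopology C} (O : Sheaf J CommRingCat.{u})

section Pair

variable {κ μ : Type} [Finite κ] [Finite μ] {U : κ → C} {U' : μ → C} {X : ModSite.Mod O}

/-- Maps out of a sum of two sums. -/
abbrev pairDesc (a : free O U ⟶ X) (b : free O U' ⟶ X) : free O (Sum.elim U U') ⟶ X :=
  Sigma.desc fun x => match x with
    | Sum.inl k => Sigma.ι (fun k => ModSite.freeOn O (U k)) k ≫ a
    | Sum.inr k => Sigma.ι (fun k => ModSite.freeOn O (U' k)) k ≫ b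

/-- First summand. -/
abbrev pairInl : free O U ⟶ free O (Sum.elim U U') :=
  Sigma.desc fun k => Sigma.ι (fun x => ModSite.freeOn O (Sum.elim U U' x)) (Sum.inl k)

/-- Second summand. -/
abbrev pairInr : free O U' ⟶ free O (Sum.elim U U') :=
  Sigma.desc fun k => Sigma.ι (fun x => ModSite.freeOn O (Sum.elim U U' x)) (Sum.inr k)

theorem inl_desc (a : free O U ⟶ X) (b : free O U' ⟶ X) : pairInl O ≫ pairDesc O a b = a :=
  Sigma.hom_ext _ _ fun k => by simp

theorem inr_desc (a : free O U ⟶ X) (b : free O U' ⟶ X) : pairInr O ≫ pairDesc O a b = b :=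
  Sigma.hom_ext _ _ fun k => by simp

theorem pair_ext {a b : free O (Sum.elim U U') ⟶ X} (h₁ : pairInl O ≫ a = pairInl O ≫ b)
    (h₂ : pairInr O ≫ a = pairInr O ≫ b) : a = b :=
  Sigma.hom_ext _ _ fun x => by
    cases x with
    | inl k => simpa using congrArg (fun m => Sigma.ι (fun k => ModSite.freeOn O (U k)) k ≫ m) h₁
    | inr k => simpa using congrArg (fun m => Sigma.ι (fun k => ModSite.freeOn O (U' k)) k ≫ m) h₂

theorem pair_total :
    pairDesc O (𝟙 (free O U)) (0 : free O U' ⟶ free O U) ≫ pairInl O +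
      pairDesc O (0 : free O U ⟶ free O U') (𝟙 (free O U')) ≫ pairInr O = 𝟙 _ :=
  pair_ext O (by rw [Preadditive.comp_add, ← Category.assoc, inl_desc, ← Category.assoc, inl_desc]; simp)
    (by rw [Preadditive.comp_add, ← Category.assoc, inr_desc, ← Category.assoc, inr_desc]; simp)

end Pair

variable (B : Set C)

/-- A finite presentation by sums of `j_{U!} O_U` with `U` in `B`. -/
def Pres (X : ModSite.Mod O) : Prop :=
  ∃ (μ κ : Type) (_ : Finite μ) (_ : Finite κ) (V : μ → C) (U : κ → C),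
    (∀ j, V j ∈ B) ∧ (∀ i, U i ∈ B) ∧
      ∃ (r : free O V ⟶ free O U) (q : free O U ⟶ X) (w : r ≫ q = 0),
        Epi q ∧ (ShortComplex.mk r q w).Exact

/-- The kernel of a map is covered by a finite sum. -/
def KerFG {F G : ModSite.Mod O} (α : F ⟶ G) : Prop :=
  ∃ (μ : Type) (_ : Finite μ) (V : μ → C), (∀ j, V j ∈ B) ∧
    ∃ (c : free O V ⟶ F) (w : c ≫ α = 0), (ShortComplex.mk c α w).Exact

variable {O B}

theorem Pres.of_stmt {X : ModSite.Mod O}
    (h : ∃ (m' n' : ℕ) (V' : Fin m' → C) (U' : Fin n' → C)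
      (ψ : (∐ fun j => ModSite.freeOn O (V' j)) ⟶ ∐ fun i => ModSite.freeOn O (U' i)),
      (∀ j, V' j ∈ B) ∧ (∀ i, U' i ∈ B) ∧ Nonempty (X ≅ cokernel ψ)) : Pres O B X := by
  obtain ⟨m, n, V, U, ψ, hV, hU, ⟨e⟩⟩ := h
  refine ⟨_, _, inferInstance, inferInstance, V, U, hV, hU, ψ, cokernel.π ψ ≫ e.inv,
    by rw [cokernel.condition_assoc, zero_comp], epi_comp _ _, ?_⟩
  refine (ShortComplex.exact_iff_of_iso (ShortComplex.isoMk
    (S₁ := ShortComplex.mk ψ (cokernel.π ψ ≫ e.inv) (by rw [cokernel.condition_assoc, zero_comp]))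
    (S₂ := ShortComplex.mk ψ (cokernel.π ψ) (cokernel.condition ψ))
    (Iso.refl _) (Iso.refl _) e (by simp) (by simp))).2 ?_
  exact ShortComplex.exact_of_g_is_cokernel _ (cokernelIsCokernel ψ)

theorem Pres.to_stmt {X : ModSite.Mod O} (h : Pres O B X) :
    ∃ (m' n' : ℕ) (V' : Fin m' → C) (U' : Fin n' → C)
      (ψ : (∐ fun j => ModSite.freeOn O (V' j)) ⟶ ∐ fun i => ModSite.freeOn O (U' i)),
      (∀ j, V' j ∈ B) ∧ (∀ i, U' i ∈ B) ∧ Nonempty (X ≅ cokernel ψ) := by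
  obtain ⟨μ, κ, _, _, V, U, hV, hU, r, q, w, _, hex⟩ := h
  obtain ⟨m, ⟨em⟩⟩ := Finite.exists_equiv_fin μ
  obtain ⟨n, ⟨en⟩⟩ := Finite.exists_equiv_fin κ
  let i₁ : (∐ fun j => ModSite.freeOn O (V (em.symm j))) ≅ free O V :=
    Sigma.whiskerEquiv (f := fun j => ModSite.freeOn O (V (em.symm j))) (g := fun j => ModSite.freeOn O (V j))
      em.symm (fun _ => Iso.refl _)
  let i₂ : (∐ fun j => ModSite.freeOn O (U (en.symm j))) ≅ free O U :=
    Sigma.whiskerEquiv (f := fun j => ModSite.freeOn O (U (en.symm j))) (g := fun j => ModSite.freeOn O (U j))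
      en.symm (fun _ => Iso.refl _)
  refine ⟨m, n, _, _, i₁.hom ≫ r ≫ i₂.inv, fun j => hV _, fun i => hU _, ⟨?_⟩⟩
  haveI : Epi (ShortComplex.mk r q w).g := ‹Epi q›
  exact IsColimit.coconePointUniqueUpToIso hex.gIsCokernel (cokernelIsCokernel r) ≪≫
    (cokernel.mapIso (i₁.hom ≫ r ≫ i₂.inv) r i₁ i₂ (by simp)).symm

variable (hB₁ : ∀ X : C, ∃ (κ : Type u) (Y : κ → C) (g : ∀ k, Y k ⟶ X), Sieve.ofArrows Y g ∈ J X ∧ ∀ k, Y k ∈ B)
  (hB : ∀ U ∈ B, ToposFin.IsQCSite J U)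
include hB₁ hB

/-- Lifting through an epimorphism after a refinement. -/
theorem exists_lift' {κ : Type} [Finite κ] {U : κ → C} (hU : ∀ k, U k ∈ B) {G H : ModSite.Mod O}
    (f : free O U ⟶ G) (p : H ⟶ G) [Epi p] :
    ∃ (κ' : Type) (_ : Finite κ') (U' : κ' → C), (∀ k, U' k ∈ B) ∧
      ∃ (e : free O U' ⟶ free O U) (h : free O U' ⟶ H), Epi e ∧ h ≫ p = e ≫ f := by
  obtain ⟨n, V, g, hV, hcov, h, hh⟩ := exists_lift hB₁ (fun k => hB _ (hU k)) f p
  refine ⟨(Σ k, Fin (n k)), inferInstance, fun x => V x.1 x.2, fun x => hV x.1 x.2, _, h, ?_, hh⟩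
  exact epi_refine hB₁ g hcov

theorem Pres.cokernel {F G : ModSite.Mod O} (α : F ⟶ G) (hF : Pres O B F) (hG : Pres O B G) :
    Pres O B (Limits.cokernel α) := by
  obtain ⟨-, κ, -, _, -, U, -, hU, -, q, -, _, -⟩ := hF
  obtain ⟨μG, κG, _, _, VG, UG, hVG, hUG, rG, qG, wG, _, hexG⟩ := hG
  obtain ⟨κ', _, U', hU', e, h, _, hh⟩ := exists_lift' hB₁ hB hU (q ≫ α) qG
  have w : pairDesc O h rG ≫ qG ≫ cokernel.π α = 0 := pair_ext O
    (by rw [← Category.assoc, inl_desc, comp_zero, ← Category.assoc, hh]; simp)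
    (by rw [← Category.assoc, inr_desc, comp_zero, reassoc_of% wG, zero_comp])
  refine ⟨_, _, inferInstance, inferInstance, Sum.elim U' VG, UG, ?_, hUG, pairDesc O h rG, qG ≫ cokernel.π α, w,
    epi_comp _ _, ?_⟩
  · rintro (k | k)
    exacts [hU' k, hVG k]
  rw [ShortComplex.exact_iff_exact_up_to_refinements]
  intro A x hx
  dsimp at hx
  rw [← Category.assoc] at hx
  obtain ⟨A₁, π₁, _, y, hy⟩ := (ShortComplex.exact_of_g_is_cokernel
    (ShortComplex.mk α (cokernel.π α) (cokernel.condition α)) (cokernelIsCokernel α)).exact_up_to_refinements _ hx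
  dsimp at hy
  obtain ⟨A₂, π₂, _, y₂, hy₂⟩ := surjective_up_to_refinements_of_epi (e ≫ q) y
  have hz : ((π₂ ≫ π₁) ≫ x - y₂ ≫ h) ≫ qG = 0 := by
    rw [Preadditive.sub_comp, Category.assoc, Category.assoc, hy, ← Category.assoc π₂, hy₂, Category.assoc,
      Category.assoc, Category.assoc, hh, sub_self]
  obtain ⟨A₃, π₃, _, v, hv⟩ := hexG.exact_up_to_refinements _ hz
  refine ⟨A₃, π₃ ≫ π₂ ≫ π₁, inferInstance, π₃ ≫ y₂ ≫ pairInl O + v ≫ pairInr O, ?_⟩
  dsimp at hv ⊢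
  simp only [Preadditive.add_comp, Category.assoc, inl_desc, inr_desc, ← hv, Preadditive.comp_sub]
  abel

/-- The kernel condition for maps of finite sums with arbitrary index. -/
theorem kerFG_free
    (hker : ∀ (m n : ℕ) (V : Fin m → C) (U : Fin n → C)
      (φ : (∐ fun j => ModSite.freeOn O (V j)) ⟶ ∐ fun i => ModSite.freeOn O (U i)),
      (∀ j, V j ∈ B) → (∀ i, U i ∈ B) → (∃ (m' n' : ℕ) (V' : Fin m' → C) (U' : Fin n' → C)
        (ψ : (∐ fun j => ModSite.freeOn O (V' j)) ⟶ ∐ fun i => ModSite.freeOn O (U' i)),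
        (∀ j, V' j ∈ B) ∧ (∀ i, U' i ∈ B) ∧ Nonempty (kernel φ ≅ Limits.cokernel ψ)))
    {μ κ : Type} [Finite μ] [Finite κ] {V : μ → C} {U : κ → C} (hV : ∀ j, V j ∈ B) (hU : ∀ i, U i ∈ B)
    (χ : free O V ⟶ free O U) : KerFG O B χ := by
  obtain ⟨m, ⟨em⟩⟩ := Finite.exists_equiv_fin μ
  obtain ⟨n, ⟨en⟩⟩ := Finite.exists_equiv_fin κ
  let i₁ : (∐ fun j => ModSite.freeOn O (V (em.symm j))) ≅ free O V :=
    Sigma.whiskerEquiv (f := fun j => ModSite.freeOn O (V (em.symm j))) (g := fun j => ModSite.freeOn O (V j))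
      em.symm (fun _ => Iso.refl _)
  let i₂ : (∐ fun j => ModSite.freeOn O (U (en.symm j))) ≅ free O U :=
    Sigma.whiskerEquiv (f := fun j => ModSite.freeOn O (U (en.symm j))) (g := fun j => ModSite.freeOn O (U j))
      en.symm (fun _ => Iso.refl _)
  let φ := i₁.hom ≫ χ ≫ i₂.inv
  obtain ⟨-, κ', -, _, -, U', -, hU', -, q, -, _, -⟩ :=
    Pres.of_stmt (hker m n _ _ φ (fun j => hV _) (fun i => hU _))
  have hc : (q ≫ kernel.ι φ ≫ i₁.hom) ≫ χ = 0 := by
    rw [← cancel_mono i₂.inv, zero_comp, Category.assoc, Category.assoc, Category.assoc]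
    exact (congrArg (q ≫ ·) (kernel.condition φ)).trans comp_zero
  refine ⟨κ', inferInstance, U', hU', _, hc, ?_⟩
  rw [ShortComplex.exact_iff_exact_up_to_refinements]
  intro A x hx
  dsimp at hx ⊢
  obtain ⟨A', π, _, y, hy⟩ := surjective_up_to_refinements_of_epi q
    (kernel.lift φ (x ≫ i₁.inv) (by simp [φ, reassoc_of% hx]))
  refine ⟨A', π, inferInstance, y, ?_⟩
  rw [← Category.assoc y, ← hy]
  simp

theorem kerFG_pres
    (hker : ∀ (μ κ : Type) (_ : Finite μ) (_ : Finite κ) (V : μ → C) (U : κ → C), (∀ j, V j ∈ B) →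
      (∀ i, U i ∈ B) → ∀ χ : free O V ⟶ free O U, KerFG O B χ)
    {F G : ModSite.Mod O} (α : F ⟶ G) (hF : Pres O B F) (hG : Pres O B G) : KerFG O B α := by
  obtain ⟨-, κ, -, _, -, U, -, hU, -, q, -, _, -⟩ := hF
  obtain ⟨μG, κG, _, _, VG, UG, hVG, hUG, rG, qG, wG, _, hexG⟩ := hG
  obtain ⟨κ', _, U', hU', e, h, _, hh⟩ := exists_lift' hB₁ hB hU (q ≫ α) qG
  have hmem : ∀ x, Sum.elim U' VG x ∈ B := by
    rintro (k | k)
    exacts [hU' k, hVG k]
  obtain ⟨Γ, _, W, hW, γ, hγ, hγex⟩ := hker _ _ inferInstance inferInstance _ _ hmem hUG (pairDesc O h rG)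
  let fst := pairDesc O (𝟙 (free O U')) (0 : free O VG ⟶ free O U')
  let snd := pairDesc O (0 : free O U' ⟶ free O VG) (𝟙 (free O VG))
  have htot : fst ≫ h + snd ≫ rG = pairDesc O h rG := pair_ext O
    (by simp [fst, snd, ← Category.assoc, inl_desc]) (by simp [fst, snd, ← Category.assoc, inr_desc])
  have w : (γ ≫ fst ≫ e ≫ q) ≫ α = 0 := by
    have h0 : γ ≫ (fst ≫ h + snd ≫ rG) ≫ qG = 0 := by rw [htot, reassoc_of% hγ, zero_comp]
    simpa [hh, wG] using h0
  refine ⟨Γ, inferInstance, W, hW, _, w, ?_⟩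
  rw [ShortComplex.exact_iff_exact_up_to_refinements]
  intro A x hx
  dsimp at hx ⊢
  obtain ⟨A₁, π₁, _, y, hy⟩ := surjective_up_to_refinements_of_epi (e ≫ q) x
  have hy' : (y ≫ h) ≫ qG = 0 := by
    rw [Category.assoc, hh, ← Category.assoc, ← Category.assoc, Category.assoc y, ← hy, Category.assoc, hx, comp_zero]
  obtain ⟨A₂, π₂, _, v, hv⟩ := hexG.exact_up_to_refinements _ hy'
  dsimp at hv
  have hz : ((π₂ ≫ y) ≫ pairInl O - v ≫ pairInr O) ≫ pairDesc O h rG = 0 := by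
    simp [inl_desc, inr_desc, hv]
  obtain ⟨A₃, π₃, _, t, ht⟩ := hγex.exact_up_to_refinements _ hz
  dsimp at ht
  refine ⟨A₃, π₃ ≫ π₂ ≫ π₁, inferInstance, t, ?_⟩
  rw [← reassoc_of% ht]
  simp [fst, ← Category.assoc (pairInl O), ← Category.assoc (pairInr O), inl_desc, inr_desc, hy]

end Groth.Agent.ModQcLib
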