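import Groth.Agent.ModQcLib.Coprod
import Groth.Agent.SiteBase.FreeMod
import Groth.Agent.SiteBase.FreeOn

/-!
Finite sums of `j_{U!} O_U`, covers and refinements.
-/

set_option autoImplicit false
set_option linter.style.haveILetI false
set_option linter.unusedSectionVars false
set_option backward.isDefEq.respectTransparency false
set_option backward.isDefEq.respectTransparency.types false

universe u

open CategoryTheory CategoryTheory.Limits Opposite
open scoped Classical

noncomputable section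

namespace Groth.Agent.ModQcLib

variable {C : Type u} [SmallCategory C] {J : GrothendieckTopology C} (O : Sheaf J CommRingCat.{u})

/-- Maps out of `j_{U!} O_U` are sections. -/
abbrev eH (U : C) (N : ModSite.Mod O) : (ModSite.freeOn O U ⟶ N) ≃ N.val.obj (op U) :=
  SiteBase.FreeOn.freeOnEquiv O U N

theorem eH_comp {U : C} {N N' : ModSite.Mod O} (φ : ModSite.freeOn O U ⟶ N) (g : N ⟶ N') :
    eH O U N' (φ ≫ g) = g.val.app (op U) (eH O U N φ) :=
  SiteBase.FreeOn.freeOnEquiv_comp O U φ g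

/-- Restriction maps of the `j_{U!} O_U`. -/
def freeMap {V W : C} (g : V ⟶ W) : ModSite.freeOn O V ⟶ ModSite.freeOn O W :=
  (eH O V _).symm ((ModSite.freeOn O W).val.map g.op (eH O W _ (𝟙 _)))

theorem eH_freeMap {V W : C} (g : V ⟶ W) {N : ModSite.Mod O} (φ : ModSite.freeOn O W ⟶ N) :
    eH O V N (freeMap O g ≫ φ) = N.val.map g.op (eH O W N φ) := by
  rw [eH_comp, freeMap, Equiv.apply_symm_apply, PresheafOfModules.naturality_apply, ← eH_comp, Category.id_comp]

/-- A finite sum of `j_{U!} O_U`. -/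
abbrev free {κ : Type} [Finite κ] (U : κ → C) : ModSite.Mod O := ∐ fun k => ModSite.freeOn O (U k)

/-- The map from the sum over a family of arrows. -/
abbrev freeCover {κ : Type} [Finite κ] {W : C} {V : κ → C} (g : ∀ k, V k ⟶ W) : free O V ⟶ ModSite.freeOn O W :=
  Sigma.desc fun k => freeMap O (g k)

theorem sep {N : ModSite.Mod O} {W : C} {S : Sieve W} (hS : S ∈ J W) {s t : N.val.obj (op W)}
    (h : ∀ ⦃V : C⦄ (g : V ⟶ W), S g → N.val.map g.op s = N.val.map g.op t) : s = t :=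
  (((isSheaf_iff_isSheaf_of_type _ _).1
    ((sheafCompose J (forget AddCommGrpCat.{u})).obj (ModSite.toAb N)).property) S hS).isSeparatedFor.ext h

theorem epi_freeCover {κ : Type} [Finite κ] {W : C} {V : κ → C} (g : ∀ k, V k ⟶ W)
    (h : Sieve.ofArrows V g ∈ J W) : Epi (freeCover O g) := by
  refine ⟨fun {N} φ ψ e => (eH O W N).injective (sep O h ?_)⟩
  intro X a ha
  obtain ⟨k, l, rfl⟩ := (Sieve.mem_ofArrows_iff _ _ _).1 ha
  have e' := congrArg (fun m => eH O (V k) N (Sigma.ι (fun k => ModSite.freeOn O (V k)) k ≫ m)) e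
  simp only [Sigma.ι_desc_assoc, eH_freeMap] at e'
  rw [op_comp, PresheafOfModules.map_comp_apply, PresheafOfModules.map_comp_apply]
  exact congrArg (N.val.map l.op) e'

/-- The standard differences of a cover. -/
abbrev coverRel [HasPullbacks C] {κ : Type} [Finite κ] {W : C} {V : κ → C} (g : ∀ k, V k ⟶ W) :
    free O (fun p : κ × κ => pullback (g p.1) (g p.2)) ⟶ free O V :=
  Sigma.desc fun p => freeMap O (pullback.fst (g p.1) (g p.2)) ≫ Sigma.ι (fun k => ModSite.freeOn O (V k)) p.1 -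
    freeMap O (pullback.snd (g p.1) (g p.2)) ≫ Sigma.ι (fun k => ModSite.freeOn O (V k)) p.2

theorem coverRel_comp [HasPullbacks C] {κ : Type} [Finite κ] {W : C} {V : κ → C} (g : ∀ k, V k ⟶ W) :
    coverRel O g ≫ freeCover O g = 0 := by
  refine Sigma.hom_ext _ _ fun p => ?_
  rw [Sigma.ι_desc_assoc, comp_zero, Preadditive.sub_comp, Category.assoc, Category.assoc, Sigma.ι_desc,
    Sigma.ι_desc, sub_eq_zero]
  apply (eH O _ _).injective
  have e : ∀ (X Y : C) (a : X ⟶ Y) (b : Y ⟶ W), eH O X _ (freeMap O a ≫ freeMap O b) =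
      (ModSite.freeOn O W).val.map (a ≫ b).op (eH O W _ (𝟙 _)) := fun X Y a b => by
    rw [eH_freeMap, freeMap, Equiv.apply_symm_apply, op_comp, PresheafOfModules.map_comp_apply]
  rw [e, e, pullback.condition]

theorem exists_glue [HasPullbacks C] {κ : Type} [Finite κ] {W : C} {V : κ → C} (g : ∀ k, V k ⟶ W)
    (h : Sieve.ofArrows V g ∈ J W) {N : ModSite.Mod O} (φ : free O V ⟶ N) (hφ : coverRel O g ≫ φ = 0) :
    ∃ s, ∀ k, N.val.map (g k).op s = eH O (V k) N (Sigma.ι (fun k => ModSite.freeOn O (V k)) k ≫ φ) := by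
  have hsheaf : Presieve.IsSheafFor
      ((sheafCompose J (forget AddCommGrpCat.{u})).obj (ModSite.toAb N)).obj (Presieve.ofArrows V g) :=
    (Presieve.isSheafFor_iff_generate _).2 (((isSheaf_iff_isSheaf_of_type _ _).1
      ((sheafCompose J (forget AddCommGrpCat.{u})).obj (ModSite.toAb N)).property) _ h)
  refine (((Presieve.isSheafFor_arrows_iff_pullbacks _ _).1 hsheaf)
    (fun k => eH O (V k) N (Sigma.ι (fun k => ModSite.freeOn O (V k)) k ≫ φ)) fun k l => ?_).exists
  have e := congrArg (fun m => Sigma.ι (fun p : κ × κ => ModSite.freeOn O (pullback (g p.1) (g p.2))) (k, l) ≫ m) hφ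
  simp only [Sigma.ι_desc_assoc, comp_zero, Preadditive.sub_comp, Category.assoc, sub_eq_zero] at e
  show N.val.map (pullback.fst (g k) (g l)).op _ = N.val.map (pullback.snd (g k) (g l)).op _
  rw [← eH_freeMap, ← eH_freeMap, e]

/-- The sum over a cover modulo the differences is `j_{W!} O_W`. -/
theorem exact_coverRel [HasPullbacks C] {κ : Type} [Finite κ] {W : C} {V : κ → C} (g : ∀ k, V k ⟶ W)
    (h : Sieve.ofArrows V g ∈ J W) :
    (ShortComplex.mk (coverRel O g) (freeCover O g) (coverRel_comp O g)).Exact := by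
  haveI := epi_freeCover O g h
  have fac : ∀ {N : ModSite.Mod O} (φ : free O V ⟶ N) (hφ : coverRel O g ≫ φ = 0),
      freeCover O g ≫ (eH O W N).symm (exists_glue O g h φ hφ).choose = φ := fun {N} φ hφ => by
    refine Sigma.hom_ext _ _ fun k => ?_
    rw [Sigma.ι_desc_assoc]
    apply (eH O _ _).injective
    rw [eH_freeMap, Equiv.apply_symm_apply]
    exact (exists_glue O g h φ hφ).choose_spec k
  exact ShortComplex.exact_of_g_is_cokernel _ (CokernelCofork.IsColimit.ofπ _ _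
    (fun {N} φ hφ => (eH O W N).symm (exists_glue O g h φ hφ).choose) fac
    (fun {N} φ hφ m hm => (cancel_epi (freeCover O g)).1 (hm.trans (fac φ hφ).symm)))

/-! ### Refinements -/

variable {O} {B : Set C}
  (hB₁ : ∀ X : C, ∃ (κ : Type u) (Y : κ → C) (g : ∀ k, Y k ⟶ X), Sieve.ofArrows Y g ∈ J X ∧ ∀ k, Y k ∈ B)
include hB₁

theorem exists_fin_cover {W : C} (hW : ToposFin.IsQCSite J W) {S : Sieve W} (hS : S ∈ J W) :
    ∃ (n : ℕ) (V : Fin n → C) (g : ∀ k, V k ⟶ W), (∀ k, V k ∈ B) ∧ (∀ k, S (g k)) ∧ Sieve.ofArrows V g ∈ J W := by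
  let R : Sieve W := Sieve.generate fun V g => V ∈ B ∧ S g
  have hR : R ∈ J W := J.transitive hS _ fun Y f hf => by
    obtain ⟨κ, Z, a, ha, hZ⟩ := hB₁ Y
    refine J.superset_covering (fun X b hb => ?_) ha
    obtain ⟨k, c, rfl⟩ := (Sieve.mem_ofArrows_iff _ _ _).1 hb
    exact ⟨Z k, c, a k ≫ f, ⟨hZ k, S.downward_closed hf _⟩, (Category.assoc _ _ _).symm⟩
  obtain ⟨n, V, g, hg, hcov⟩ := hW R hR
  choose V' c g' hg' hc using hg
  refine ⟨n, V', g', fun k => (hg' k).1, fun k => (hg' k).2, J.superset_covering (fun X b hb => ?_) hcov⟩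
  obtain ⟨k, l, rfl⟩ := (Sieve.mem_ofArrows_iff _ _ _).1 hb
  rw [← hc k, ← Category.assoc]
  exact Sieve.downward_closed _ (Sieve.ofArrows_mk V' g' k) _

/-- Maps from finite sums lift through epimorphisms after a finite refinement. -/
theorem exists_lift {κ : Type} [Finite κ] {U : κ → C} (hU : ∀ k, ToposFin.IsQCSite J (U k))
    {G H : ModSite.Mod O} (f : free O U ⟶ G) (p : H ⟶ G) [Epi p] :
    ∃ (n : κ → ℕ) (V : (k : κ) → Fin (n k) → C) (g : ∀ k i, V k i ⟶ U k),
      (∀ k i, V k i ∈ B) ∧ (∀ k, Sieve.ofArrows (V k) (g k) ∈ J (U k)) ∧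
      ∃ h : free O (fun x : Σ k, Fin (n k) => V x.1 x.2) ⟶ H,
        h ≫ p = Sigma.desc (fun x : Σ k, Fin (n k) => freeMap O (g x.1 x.2) ≫
          Sigma.ι (fun k => ModSite.freeOn O (U k)) x.1) ≫ f := by
  haveI : Epi ((SheafOfModules.toSheaf (ModSite.ringSh O)).map p) := inferInstance
  haveI : Sheaf.IsLocallySurjective ((SheafOfModules.toSheaf (ModSite.ringSh O)).map p) :=
    (Sheaf.isLocallySurjective_iff_epi' AddCommGrpCat.{u} _).2 inferInstance
  have key : ∀ k, ∃ (n : ℕ) (V : Fin n → C) (g : ∀ i, V i ⟶ U k), (∀ i, V i ∈ B) ∧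
      Sieve.ofArrows V g ∈ J (U k) ∧ ∀ i, ∃ h : ModSite.freeOn O (V i) ⟶ H,
        h ≫ p = freeMap O (g i) ≫ Sigma.ι (fun k => ModSite.freeOn O (U k)) k ≫ f := fun k => by
    let t : G.val.obj (op (U k)) := eH O (U k) G (Sigma.ι (fun k => ModSite.freeOn O (U k)) k ≫ f)
    obtain ⟨n, V, g, hV, hg, hcov⟩ := exists_fin_cover hB₁ (hU k)
      (Presheaf.imageSieve_mem J ((SheafOfModules.toSheaf (ModSite.ringSh O)).map p).hom (U := op (U k)) t)
    refine ⟨n, V, g, hV, hcov, fun i => ?_⟩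
    obtain ⟨s, hs⟩ := hg i
    refine ⟨(eH O (V i) H).symm s, (eH O (V i) G).injective ?_⟩
    rw [eH_comp, Equiv.apply_symm_apply, eH_freeMap]
    exact hs
  choose n V g hV hcov h hh using key
  refine ⟨n, V, g, hV, hcov, Sigma.desc fun x => h x.1 x.2, Sigma.hom_ext _ _ fun x => ?_⟩
  rw [Sigma.ι_desc_assoc, Sigma.ι_desc_assoc, Category.assoc]
  exact hh x.1 x.2

theorem epi_refine {κ : Type} [Finite κ] {U : κ → C} {n : κ → ℕ} {V : (k : κ) → Fin (n k) → C}
    (g : ∀ k i, V k i ⟶ U k) (h : ∀ k, Sieve.ofArrows (V k) (g k) ∈ J (U k)) :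
    Epi (Sigma.desc (fun x : Σ k, Fin (n k) => freeMap O (g x.1 x.2) ≫
      Sigma.ι (fun k => ModSite.freeOn O (U k)) x.1)) := by
  refine ⟨fun {N} φ ψ e => Sigma.hom_ext _ _ fun k => ?_⟩
  haveI := epi_freeCover O (g k) (h k)
  rw [← cancel_epi (freeCover O (g k))]
  refine Sigma.hom_ext _ _ fun i => ?_
  have e' := congrArg (fun m => Sigma.ι (fun x : Σ k, Fin (n k) => ModSite.freeOn O (V x.1 x.2)) ⟨k, i⟩ ≫ m) e
  simpa using e'

end Groth.Agent.ModQcLib
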