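import Groth.Agent.SiteBase.ExtZeroMod
import Groth.Prelude.Def_ModSite2

/-!
Stalks of the extension by zero.
-/

set_option autoImplicit false
set_option linter.style.haveILetI false
set_option linter.unusedSectionVars false
set_option backward.isDefEq.respectTransparency false
set_option backward.isDefEq.respectTransparency.types false

universe u

open CategoryTheory CategoryTheory.Limits Opposite
open scoped Classical

noncomputable section

namespace Groth.Agent.ModQcLib

open SiteBase.ExtZeroPre GrothendieckTopology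

variable {C : Type u} [SmallCategory C] {J : GrothendieckTopology C} {R : Cᵒᵖ ⥤ RingCat.{u}} {U : C}
  (G : PresheafOfModules.{u} (overR R U)) (p : GrothendieckTopology.Point.{u} J)

/-- The stalk of `G` at the point over `x`. -/
abbrev overFib (x : p.fiber.obj U) : AddCommGrpCat.{u} := (p.over x).presheafFiber.obj G.presheaf

/-- A summand of the extension by zero goes to the stalk at the point above. -/
def toSum (V : C) (v : p.fiber.obj V) (φ : V ⟶ U) :
    G.presheaf.obj (op (Over.mk φ)) ⟶ ∐ fun x : p.fiber.obj U => overFib G p x :=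
  (p.over (p.fiber.map φ v)).toPresheafFiber (Over.mk φ) ⟨v, rfl⟩ G.presheaf ≫
    Sigma.ι (fun x : p.fiber.obj U => overFib G p x) (p.fiber.map φ v)

theorem toSum_eq (Y : Over U) (x : p.fiber.obj U) (y : p.fiber.obj Y.left) (h : p.fiber.map Y.hom y = x) :
    toSum G p Y.left y Y.hom =
      (p.over x).toPresheafFiber Y ⟨y, h⟩ G.presheaf ≫ Sigma.ι (fun x : p.fiber.obj U => overFib G p x) x := by
  subst h
  rfl

/-- The comparison on sections. -/
def jComp (V : C) (v : p.fiber.obj V) : (jAb G).obj (op V) ⟶ ∐ fun x : p.fiber.obj U => overFib G p x :=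
  AddCommGrpCat.ofHom (DirectSum.toAddMonoid fun φ : V ⟶ U =>
    (show fib G V φ →+ _ from (toSum G p V v φ).hom))

theorem jComp_ι (V : C) (v : p.fiber.obj V) (φ : V ⟶ U) (z : fib G V φ) :
    jComp G p V v (ι G V φ z) = toSum G p V v φ z :=
  DirectSum.toAddMonoid_of _ _ _

/-- The comparison out of the stalk of the extension by zero. -/
def jToSum : p.presheafFiber.obj (jAb G) ⟶ ∐ fun x : p.fiber.obj U => overFib G p x :=
  p.presheafFiberDesc (fun V v => jComp G p V v) (by
    intro V W g v
    refine AddCommGrpCat.hom_ext (DirectSum.addHom_ext fun φ z => ?_)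
    show jComp G p V v ((jAb G).map g.op (ι G W φ z)) = jComp G p W _ (ι G W φ z)
    rw [jComp_ι]
    refine (congrArg (jComp G p V v) (DirectSum.toAddMonoid_of (resOne G g) φ z)).trans ?_
    rw [resOne_apply]
    refine (jComp_ι G p V v (g ≫ φ) _).trans ?_
    have h1 : p.fiber.map (g ≫ φ) v = p.fiber.map φ (p.fiber.map g v) := Functor.map_comp_apply _ _ _ _
    refine (congr($(toSum_eq G p (Over.mk (g ≫ φ)) _ v h1) _)).trans ?_
    refine congrArg (Sigma.ι (fun x : p.fiber.obj U => overFib G p x) _) ?_
    exact (p.over (p.fiber.map φ (p.fiber.map g v))).toPresheafFiber_w_apply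
      (Over.homMk g : Over.mk (g ≫ φ) ⟶ Over.mk φ) ⟨v, h1⟩ G.presheaf z)

/-- The comparison into it. -/
def sumToJ : (∐ fun x : p.fiber.obj U => overFib G p x) ⟶ p.presheafFiber.obj (jAb G) :=
  Sigma.desc fun x => (p.over x).presheafFiberDesc
    (fun Y y => AddCommGrpCat.ofHom (ι G Y.left Y.hom) ≫ p.toPresheafFiber Y.left y.1 (jAb G)) (by
      intro Y Y' g y
      ext z
      show p.toPresheafFiber Y.left y.1 (jAb G) (ι G Y.left Y.hom (gmap G g z)) =
        p.toPresheafFiber Y'.left (p.fiber.map g.left y.1) (jAb G) (ι G Y'.left Y'.hom z)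
      rw [← p.toPresheafFiber_w_apply g.left y.1 (jAb G)]
      exact congrArg _ (jObj_map_ι G g.left Y'.hom g rfl z).symm)

theorem toFib_jToSum (V : C) (v : p.fiber.obj V) :
    p.toPresheafFiber V v (jAb G) ≫ jToSum G p = jComp G p V v :=
  colimit.ι_desc _ _

theorem toFib_sumToJ (x : p.fiber.obj U) (Y : Over U) (y : (p.over x).fiber.obj Y) :
    (p.over x).toPresheafFiber Y y G.presheaf ≫ Sigma.ι (fun x : p.fiber.obj U => overFib G p x) x ≫ sumToJ G p =
      AddCommGrpCat.ofHom (ι G Y.left Y.hom) ≫ p.toPresheafFiber Y.left y.1 (jAb G) := by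
  rw [sumToJ, Sigma.ι_desc]
  exact colimit.ι_desc _ _

/-- The stalk of the extension by zero. -/
def jStalkIso : p.presheafFiber.obj (jAb G) ≅ ∐ fun x : p.fiber.obj U => overFib G p x where
  hom := jToSum G p
  inv := sumToJ G p
  hom_inv_id := p.presheafFiber_hom_ext fun V v => by
    rw [← Category.assoc, toFib_jToSum, Category.comp_id]
    refine AddCommGrpCat.hom_ext (DirectSum.addHom_ext fun φ z => ?_)
    show sumToJ G p (jComp G p V v (ι G V φ z)) = _
    rw [jComp_ι]
    show (toSum G p V v φ ≫ sumToJ G p) z = _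
    rw [toSum, Category.assoc, toFib_sumToJ]
    rfl
  inv_hom_id := Sigma.hom_ext _ _ fun x => (p.over x).presheafFiber_hom_ext fun Y y => by
    rw [Category.comp_id, ← Category.assoc (Sigma.ι (fun x : p.fiber.obj U => overFib G p x) x), ← Category.assoc,
      toFib_sumToJ, Category.assoc, toFib_jToSum]
    refine Eq.trans ?_ (toSum_eq G p Y x y.1 y.2)
    ext z
    exact jComp_ι G p Y.left y.1 Y.hom z

end Groth.Agent.ModQcLib
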